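import Mathlib.Algebra.Polynomial.Laurent
import Mathlib.RingTheory.Polynomial.UniqueFactorization
import Mathlib.RingTheory.UniqueFactorizationDomain.Kaplansky
import Mathlib.RingTheory.Localization.Ideal
import Mathlib.Algebra.Polynomial.RingDivision
import Mathlib.RingTheory.Localization.Away.Basic
import Mathlib.Tactic.LinearCombination

/-!
Localisations of factorial rings, and monomials in Laurent polynomial rings over a domain.
-/

set_option autoImplicit false
universe u v

open Polynomial

namespace Groth.L14.FiltUFD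

/-- A localisation of a factorial domain is factorial. -/
theorem ufm_localization {R : Type u} {S : Type v} [CommRing R] [IsDomain R] [UniqueFactorizationMonoid R]
    [CommRing S] [IsDomain S] [Algebra R S] (M : Submonoid R) [IsLocalization M S] (hM : (0 : R) ∉ M) :
    UniqueFactorizationMonoid S := by
  have hinj : Function.Injective (algebraMap R S) :=
    IsLocalization.injective S (le_nonZeroDivisors_of_noZeroDivisors hM)
  rw [UniqueFactorizationMonoid.iff_exists_prime_mem_of_isPrime]
  intro Q hQ hQp
  have hP := (IsLocalization.isPrime_iff_isPrime_disjoint M S Q).1 hQp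
  have hP0 : Q.comap (algebraMap R S) ≠ ⊥ := fun h => hQ (by rw [← IsLocalization.map_under M S Q, Ideal.under_def, h, Ideal.map_bot])
  obtain ⟨π, hπ, hπp⟩ := hP.1.exists_mem_prime_of_ne_bot hP0
  refine ⟨algebraMap R S π, hπ, ?_⟩
  have hπ0 : algebraMap R S π ≠ 0 := fun h => hπp.ne_zero (hinj (by rw [h, map_zero]))
  rw [← Ideal.span_singleton_prime hπ0, ← Set.image_singleton, ← Ideal.map_span]
  exact IsLocalization.isPrime_of_isPrime_disjoint M S _ ((Ideal.span_singleton_prime hπp.ne_zero).2 hπp)
    (Set.disjoint_of_subset_right ((Ideal.span_singleton_le_iff_mem _).2 hπ) hP.2)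

variable {A : Type u} [CommRing A] [IsDomain A]

/-- A divisor of a nonzero monomial is a monomial. -/
theorem exists_eq_of_mul_eq {f g : LaurentPolynomial A} {a : A} {n : ℤ} (ha : a ≠ 0)
    (h : f * g = LaurentPolynomial.C a * LaurentPolynomial.T n) :
    ∃ (b c : A) (i j : ℤ), f = LaurentPolynomial.C b * LaurentPolynomial.T i ∧
      g = LaurentPolynomial.C c * LaurentPolynomial.T j ∧ b * c = a := by
  obtain ⟨p, f', hf'⟩ := LaurentPolynomial.exists_T_pow f
  obtain ⟨q, g', hg'⟩ := LaurentPolynomial.exists_T_pow g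
  have e : toLaurent (f' * g') = LaurentPolynomial.C a * LaurentPolynomial.T (n + p + q) := by
    rw [map_mul, hf', hg', LaurentPolynomial.T_add, LaurentPolynomial.T_add]
    linear_combination (LaurentPolynomial.T (p : ℤ) * LaurentPolynomial.T (q : ℤ)) * h
  obtain ⟨s, hs⟩ : ∃ s : ℕ, f' * g' * X ^ s = monomial ((n + p + q + s).toNat) a ∧ 0 ≤ n + p + q + s := by
    refine ⟨(-(n + p + q)).toNat, ?_, by omega⟩
    apply toLaurent_injective
    rw [map_mul, e, toLaurent_X_pow, toLaurent_C_mul_T, mul_assoc, ← LaurentPolynomial.T_add]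
    congr 2
    omega
  have hmono : ∀ {u w : A[X]} {m : ℕ}, u * w = monomial m a → ∃ b, u = monomial u.natDegree b := by
    intro u w m huw
    have hu : u ≠ 0 := fun h0 => ha (monomial_eq_zero_iff a m |>.1 (by rw [← huw, h0, zero_mul]))
    have hw : w ≠ 0 := fun h0 => ha (monomial_eq_zero_iff a m |>.1 (by rw [← huw, h0, mul_zero]))
    have h1 := natDegree_mul hu hw
    have h2 := natTrailingDegree_mul hu hw
    rw [huw, natDegree_monomial_eq m ha] at h1
    rw [huw, natTrailingDegree_monomial ha] at h2
    have h3 := natTrailingDegree_le_natDegree u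
    have h4 := natTrailingDegree_le_natDegree w
    refine ⟨u.coeff u.natDegree, Polynomial.ext fun i => ?_⟩
    rw [coeff_monomial]
    split_ifs with hi
    · rw [hi]
    · rcases Nat.lt_or_gt_of_ne hi with h' | h'
      · exact coeff_eq_zero_of_natDegree_lt h'
      · exact coeff_eq_zero_of_lt_natTrailingDegree (by omega)
  obtain ⟨b, hb⟩ := hmono (by rw [← hs.1, mul_assoc] : f' * (g' * X ^ s) = _)
  obtain ⟨c, hc⟩ := hmono (by rw [← hs.1]; ring : g' * (f' * X ^ s) = _)
  refine ⟨b, c, f'.natDegree - p, g'.natDegree - q, ?_, ?_, ?_⟩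
  · rw [LaurentPolynomial.T_sub, ← mul_assoc, ← toLaurent_C_mul_T, ← hb, hf', mul_assoc, ← LaurentPolynomial.T_add,
      add_neg_cancel, LaurentPolynomial.T_zero, mul_one]
  · rw [LaurentPolynomial.T_sub, ← mul_assoc, ← toLaurent_C_mul_T, ← hc, hg', mul_assoc, ← LaurentPolynomial.T_add,
      add_neg_cancel, LaurentPolynomial.T_zero, mul_one]
  · have h2 := congrArg (Polynomial.eval 1) hs.1
    rw [eval_mul, eval_mul, eval_pow, eval_X, one_pow, mul_one, hb, hc] at h2
    simpa using h2

/-- Units of the Laurent polynomial ring over a domain are monomials with unit coefficient. -/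
theorem exists_eq_of_isUnit {f : LaurentPolynomial A} (h : IsUnit f) :
    ∃ (b : A) (i : ℤ), IsUnit b ∧ f = LaurentPolynomial.C b * LaurentPolynomial.T i := by
  obtain ⟨g, hg⟩ := isUnit_iff_exists_inv.1 h
  obtain ⟨b, c, i, j, hb, -, hbc⟩ := exists_eq_of_mul_eq (one_ne_zero (α := A))
    (by rw [hg, map_one, LaurentPolynomial.T_zero, mul_one] : f * g = LaurentPolynomial.C 1 * LaurentPolynomial.T 0)
  exact ⟨b, i, IsUnit.of_mul_eq_one c hbc, hb⟩

end Groth.L14.FiltUFD
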