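import Groth.Prelude.Def_W4c2filtblowupsingRees
import Groth.Agent.L12.FiltReesExt
import Groth.Agent.L14.GradedUFD.Basic
import Groth.Agent.L14.FiltUFD.Basic
import Mathlib.RingTheory.FiniteType

/-!
Factoriality of extended Rees algebras.
-/

set_option autoImplicit false
universe u

open LaurentPolynomial

namespace Groth.L14.FiltUFD

variable {A : Type u} [CommRing A] (𝓕 : FiltBl.IdealFiltration A)

theorem coe_u_pow (n : ℕ) : ((𝓕.u ^ n : 𝓕.extRees) : LaurentPolynomial A) = T (-(n : ℤ)) := by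
  rw [SubmonoidClass.coe_pow, Groth.L12.FiltReesExt.coe_u, T_pow]
  congr 1
  ring

/-- The Laurent ring is the extended Rees algebra localised at `u`. -/
theorem isLocalization_laurent :
    letI : Algebra 𝓕.extRees (LaurentPolynomial A) := 𝓕.extRees.val.toRingHom.toAlgebra
    IsLocalization.Away 𝓕.u (LaurentPolynomial A) := by
  letI : Algebra 𝓕.extRees (LaurentPolynomial A) := 𝓕.extRees.val.toRingHom.toAlgebra
  refine ⟨?_, fun z => ?_, fun {x y} h => ⟨1, by rw [Subtype.ext h]⟩⟩
  · rintro ⟨_, n, rfl⟩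
    show IsUnit ((𝓕.u ^ n : 𝓕.extRees) : LaurentPolynomial A)
    rw [coe_u_pow]
    exact isUnit_T _
  · obtain ⟨N, hN⟩ : ∃ N : ℕ, ∀ i ∈ z.coeff.support, i ≤ (N : ℤ) :=
      ⟨(z.coeff.support.sup Int.toNat), fun i hi => (Int.self_le_toNat i).trans (by exact_mod_cast Finset.le_sup (f := Int.toNat) hi)⟩
    have hmem : z * T (-(N : ℤ)) ∈ 𝓕.extRees := fun i => by
      rw [show (T (-(N : ℤ)) : LaurentPolynomial A) = AddMonoidAlgebra.single (-(N : ℤ)) 1 from rfl,
        show i = (i + N) + -(N : ℤ) by ring,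
        AddMonoidAlgebra.coeff_mul_single_eq_coeff_mul (i + (N : ℤ)) (fun a _ => by omega), mul_one]
      by_cases h : i + N ∈ z.coeff.support
      · have h' := hN _ h
        rw [show ((i + N) + -(N : ℤ)).toNat = 0 by omega, 𝓕.zero_eq]
        trivial
      · rw [Finsupp.notMem_support_iff.1 h]
        exact Ideal.zero_mem _
    refine ⟨(⟨z * T (-(N : ℤ)), hmem⟩, ⟨𝓕.u ^ N, N, rfl⟩), ?_⟩
    show z * ((𝓕.u ^ N : 𝓕.extRees) : LaurentPolynomial A) = z * T (-(N : ℤ))
    rw [coe_u_pow]

/-- evaluation at `T = 1` -/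
noncomputable def ev : LaurentPolynomial A →+* A := LaurentPolynomial.eval₂ (RingHom.id A) 1

theorem ev_C_mul_T (a : A) (i : ℤ) : ev (C a * T i) = a := by
  simp [ev]

variable [IsDomain A]

/-- If the Laurent ring is factorial then so is the coefficient ring. -/
theorem ufm_of_laurent [UniqueFactorizationMonoid (LaurentPolynomial A)] : UniqueFactorizationMonoid A := by
  refine UniqueFactorizationMonoid.of_exists_prime_factors fun a ha => ?_
  have hCa : (C a : LaurentPolynomial A) ≠ 0 := fun h => ha (by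
    have := congrArg ev h
    rwa [← mul_one (C a), ← T_zero, ev_C_mul_T, map_zero] at this)
  obtain ⟨m, hm, hassoc⟩ := UniqueFactorizationMonoid.exists_prime_factors (C a) hCa
  refine ⟨m.map ev, fun b hb => ?_, ?_⟩
  · obtain ⟨q, hq, rfl⟩ := Multiset.mem_map.1 hb
    obtain ⟨r, hr⟩ : q ∣ C a := (Multiset.dvd_prod hq).trans hassoc.dvd
    obtain ⟨b, c, i, j, hqb, -, -⟩ := exists_eq_of_mul_eq ha
      (by rw [← hr, T_zero, mul_one] : q * r = C a * T 0)
    have hb : Prime (C b : LaurentPolynomial A) :=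
      (associated_mul_unit_left _ _ (isUnit_T i)).prime (hqb ▸ hm q hq)
    rw [hqb, ev_C_mul_T]
    refine ⟨fun h => hb.ne_zero (by rw [h, map_zero]), fun h => hb.not_isUnit (h.map C), fun x y hxy => ?_⟩
    have hd : ∀ z, (C b : LaurentPolynomial A) ∣ C z → b ∣ z := fun z hz => by
      have := map_dvd ev hz
      rwa [← mul_one (C b), ← mul_one (C z), ← T_zero, ev_C_mul_T, ev_C_mul_T] at this
    exact (hb.dvd_or_dvd (by rw [← map_mul]; exact map_dvd C hxy)).imp (hd x) (hd y)
  · have h2 := hassoc.map (ev.toMonoidHom)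
    simp only [RingHom.toMonoidHom_eq_coe, MonoidHom.coe_coe, map_multiset_prod] at h2
    rwa [← mul_one (C a), ← T_zero, ev_C_mul_T] at h2

/-- In a factorial extended Rees algebra the element `u` is prime. -/
theorem prime_u [UniqueFactorizationMonoid 𝓕.extRees] (h1 : 𝓕.F 1 ≠ ⊤) : Prime 𝓕.u := by
  have hu0 : 𝓕.u ≠ 0 := fun h => (isUnit_T (R := A) (-1)).ne_zero (congrArg Subtype.val h)
  have hneg : ∀ {a : A} {j : ℤ} {q : 𝓕.extRees}, IsUnit a → (q : LaurentPolynomial A) = C a * T j → j ≤ 0 := by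
    intro a j q ha hq
    by_contra hj
    have h := q.2 j
    rw [hq, ← single_eq_C_mul_T, AddMonoidAlgebra.coeff_single, Finsupp.single_eq_same] at h
    exact h1 (top_le_iff.1 ((Ideal.eq_top_of_isUnit_mem _ h ha).symm.le.trans (𝓕.antitone (by omega))))
  have hnu : ¬ IsUnit 𝓕.u := fun h => by
    obtain ⟨w, hw⟩ := isUnit_iff_exists_inv.1 h
    have hw' : (w : LaurentPolynomial A) = C 1 * T 1 := by
      have := congrArg Subtype.val hw
      simp only [Subalgebra.coe_mul, Groth.L12.FiltReesExt.coe_u, OneMemClass.coe_one] at this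
      calc (w : LaurentPolynomial A) = T 1 * (T (-1) * (w : LaurentPolynomial A)) := by
            rw [← mul_assoc, ← T_add, add_neg_cancel, T_zero, one_mul]
        _ = C 1 * T 1 := by rw [this, mul_one, map_one, one_mul]
    have := hneg isUnit_one hw'
    omega
  obtain ⟨q, hqp, r, hr⟩ := WfDvdMonoid.exists_irreducible_factor hnu hu0
  have hqr : (q : LaurentPolynomial A) * (r : LaurentPolynomial A) = C 1 * T (-1) := by
    rw [← Subalgebra.coe_mul, ← hr, Groth.L12.FiltReesExt.coe_u, map_one, one_mul]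
  obtain ⟨a, c, i, j, hq, hrc, hac⟩ := exists_eq_of_mul_eq one_ne_zero hqr
  have ha : IsUnit a := IsUnit.of_mul_eq_one c hac
  have hi := hneg ha hq
  have he : q = algebraMap A 𝓕.extRees a * 𝓕.u ^ (-i).toNat := Subtype.ext (by
    rw [Subalgebra.coe_mul, coe_u_pow, hq, Subalgebra.coe_algebraMap, LaurentPolynomial.algebraMap_apply,
      Algebra.algebraMap_self, RingHom.id_apply]
    congr 2
    omega)
  have hpow : Irreducible (𝓕.u ^ (-i).toNat) := by
    rw [he] at hqp
    exact (irreducible_isUnit_mul (ha.map _)).1 hqp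
  have hk : (-i).toNat = 1 := not_not.1 fun h => not_irreducible_pow h hpow
  rw [hk, pow_one] at hpow
  exact hpow.prime

/-- Factoriality of the extended Rees algebra. -/
theorem ufd_extRees_iff [IsNoetherianRing A] (hfg : Algebra.FiniteType A 𝓕.rees) (h1 : 𝓕.F 1 ≠ ⊤)
    [IsDomain 𝓕.extRees] :
    UniqueFactorizationMonoid 𝓕.extRees ↔ (UniqueFactorizationMonoid A ∧ IsDomain 𝓕.Gr) := by
  letI : Algebra 𝓕.extRees (LaurentPolynomial A) := 𝓕.extRees.val.toRingHom.toAlgebra
  haveI := isLocalization_laurent 𝓕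
  haveI : Algebra.FiniteType A 𝓕.extRees := Groth.L12.FiltReesExt.finiteType_extRees 𝓕 hfg
  haveI : IsNoetherianRing 𝓕.extRees := Algebra.FiniteType.isNoetherianRing A _
  have hu0 : 𝓕.u ≠ 0 := fun h => (isUnit_T (R := A) (-1)).ne_zero (congrArg Subtype.val h)
  constructor
  · intro h
    haveI : UniqueFactorizationMonoid (LaurentPolynomial A) := ufm_localization (Submonoid.powers 𝓕.u)
      (fun ⟨n, hn⟩ => pow_ne_zero n hu0 hn)
    exact ⟨ufm_of_laurent, (Ideal.Quotient.isDomain_iff_prime _).2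
      ((Ideal.span_singleton_prime hu0).2 (prime_u 𝓕 h1))⟩
  · rintro ⟨hA, hG⟩
    haveI : UniqueFactorizationMonoid (LaurentPolynomial A) := ufm_localization (Submonoid.powers (Polynomial.X : Polynomial A))
      (fun ⟨n, hn⟩ => pow_ne_zero n Polynomial.X_ne_zero hn)
    exact Groth.L14.GradedUFD.ufm_of_intermediate
      ((Ideal.span_singleton_prime hu0).1 ((Ideal.Quotient.isDomain_iff_prime _).1 hG))
      (RingHom.id (LaurentPolynomial A)) Function.injective_id (fun r => ⟨_, rfl⟩)

end Groth.L14.FiltUFD
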